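import Groth.Agent.AlgSpDec.KoszulWhere
import Groth.Agent.AlgSpLib.SmoothLocal
import Groth.Agent.AlgSpPts.Univ
import Groth.Agent.CurvLocusLib.LocP
import Groth.Agent.SmoothSecLib.Basic
import Groth.Agent.KRegLib.Mor
import Groth.Agent.S10667

/-!
# Local complete intersection morphisms of algebraic spaces are smooth local on source and target
-/

set_option autoImplicit false
set_option backward.isDefEq.respectTransparency false
set_option backward.isDefEq.respectTransparency.types false

universe u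

open CategoryTheory CategoryTheory.Limits AlgebraicGeometry Opposite AlgSp
open Groth.Agent.AlgSpLib Groth.Agent.AlgSpDec.KoszulWhere

namespace Groth.Agent.LciSmooth

theorem forall_isKoszulAt_comp {X Y Z : Scheme.{u}} {f : X ⟶ Y} {g : Y ⟶ Z}
    (hf : ∀ x, Synt.IsKoszulAt f x) (hg : ∀ y, Synt.IsKoszulAt g y) : ∀ x, Synt.IsKoszulAt (f ≫ g) x :=
  (KRegLib.forall_isKoszulAt_iff _).2 (MorphismProperty.comp_mem _ f g ((KRegLib.forall_isKoszulAt_iff f).1 hf)
    ((KRegLib.forall_isKoszulAt_iff g).1 hg))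

/-- Koszul morphisms descend along smooth morphisms on the source. -/
theorem isKoszulAt_of_smooth_comp {X Y Z : Scheme.{u}} (f : X ⟶ Y) (g : Y ⟶ Z) [Smooth f]
    (h : ∀ x, Synt.IsKoszulAt (f ≫ g) x) (x : X) : Synt.IsKoszulAt g (f x) := by
  obtain ⟨Y', v, y', -, hv, hy', σ, hσ⟩ := SmoothSecLib.exists_etale_section_scheme f x
  haveI := hv
  have hσK : ∀ z, Synt.IsKoszulAt σ z := fun z =>
    KRegLib.isKoszulAt_of_comp_smooth σ f (hσ.symm ▸ fun w => CurvLocusLib.isKoszulAt_of_smooth v w) z
  have hK := forall_isKoszulAt_comp hσK h y'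
  rw [← Category.assoc, hσ, isKoszulAt_comp_left_iff, hy'] at hK
  exact hK

variable {S : Scheme.{u}}

theorem isLocalOnSource_lci : IsLocalOnSource (IsSmCover (S := S)) (IsLCIMor (S := S)) := by
  intro ι X Xi g hX hXi hg Y f hY
  refine ⟨fun hf i U V a b h ha hb w => ?_, fun hf => isLCIMor_iff.2 fun x U V a b h u ha hb w hx => ?_⟩
  · obtain ⟨U', a₀, k, ha₀, ha₀', hk⟩ := exists_chart_over hX hY f b
    let aX := a₀ ≫ pullback.fst f b
    have haX : RepWith @Etale aX := repWith_comp ha₀ (repWith_fst f hb)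
    have wX : aX ≫ f = (yon S).map k ≫ b := by rw [Category.assoc, pullback.condition, ← Category.assoc, hk]
    let μ : (yon S).obj U ⟶ pullback f b := pullback.lift (a ≫ g i) ((yon S).map h) (by rw [Category.assoc, w])
    let π := ha₀.rep.snd μ
    let σ := ha₀.rep.fst' μ
    have hπ : Etale π.left := ha₀.property_snd μ
    have hπs : Surjective π.left := ha₀'.property _ _ _ (ha₀.rep.isPullback μ)
    have hσ : (yon S).map σ ≫ a₀ = (yon S).map π ≫ μ := (ha₀.rep.isPullback' μ).w
    have hσh : σ ≫ k = π ≫ h := (yon S).map_injective (by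
      rw [Functor.map_comp, ← hk, ← Category.assoc, hσ, Category.assoc, pullback.lift_snd, ← Functor.map_comp])
    have hsm : Smooth σ.left := hg.1 i ((yon S).map π ≫ a) aX σ
      (repWith_comp ((repWith_yon_map_iff _ π).2 hπ) ha) haX
      (by rw [Category.assoc, ← Category.assoc ((yon S).map σ), hσ, Category.assoc, pullback.lift_fst])
    have hcomp : ∀ z, Synt.IsKoszulAt (σ.left ≫ k.left) z :=
      forall_isKoszulAt_comp (fun z => CurvLocusLib.isKoszulAt_of_smooth σ.left z) (hf aX b k haX hb wX)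
    intro u
    obtain ⟨z, rfl⟩ := hπs.surj u
    haveI := hπ
    rw [← isKoszulAt_comp_left_iff π.left h.left z, ← Over.comp_left, ← hσh, Over.comp_left]
    exact hcomp z
  · subst hx
    obtain ⟨i, v, hv⟩ := hg.2 (Points.ofPt a u)
    obtain ⟨W, p, -, hp, hp', -⟩ := exists_chart_over (hXi i) hX (g i) a
    obtain ⟨z, hz₁, hz₂⟩ := exists_point_of_isPullback (IsPullback.of_hasPullback (g i) a)
      (hv.trans (Points.ofPt_eq_map_ofScheme a u))
    obtain ⟨w₀, rfl⟩ := surjective_ofPt hp' z
    let k : W ⟶ U := (yon S).preimage (p ≫ pullback.snd (g i) a)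
    have hk : (yon S).map k = p ≫ pullback.snd (g i) a := (yon S).map_preimage _
    let aI := p ≫ pullback.fst (g i) a
    have haI : RepWith @Etale aI := repWith_comp hp (repWith_fst (g i) ha)
    have wI : aI ≫ g i = (yon S).map k ≫ a := by
      rw [hk, Category.assoc, Category.assoc, pullback.condition]
    have hsm : Smooth k.left := hg.1 i aI a k haI ha wI
    have hK := hf i aI b (k ≫ h) haI hb (by
      rw [← Category.assoc, wI, Category.assoc, w, Functor.map_comp, Category.assoc])
    have hu : k.left w₀ = u := (Points.schemeEquiv U).injective (by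
      refine Eq.trans ?_ hz₂
      change Points.ofScheme U (k.left w₀) = _
      rw [Points.map_ofPt, ← hk]
      exact ((ofPt_comp k (𝟙 _) w₀).symm.trans (by rw [Category.comp_id])))
    rw [← hu]
    haveI := hsm
    exact isKoszulAt_of_smooth_comp k.left h.left (fun z => by rw [← Over.comp_left]; exact hK z) w₀

theorem lci_comp_smooth ⦃X Y Z : Sp S⦄ (_ : IsAlgSpace X) (hY : IsAlgSpace Y) (hZ : IsAlgSpace Z) (f : X ⟶ Y)
    (g : Y ⟶ Z) (hf : IsLCIMor f) (hg : LocP @Smooth g) : IsLCIMor (f ≫ g) := by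
  intro U W a c h ha hc w
  obtain ⟨V, a₀, k, ha₀, ha₀', hk⟩ := exists_chart_over hY hZ g c
  let b := a₀ ≫ pullback.fst g c
  have hb : RepWith @Etale b := repWith_comp ha₀ (repWith_fst g hc)
  have wY : b ≫ g = (yon S).map k ≫ c := by rw [Category.assoc, pullback.condition, ← Category.assoc, hk]
  let μ : (yon S).obj U ⟶ pullback g c := pullback.lift (a ≫ f) ((yon S).map h) (by rw [Category.assoc, w])
  let π := ha₀.rep.snd μ
  let σ := ha₀.rep.fst' μ
  have hπ : Etale π.left := ha₀.property_snd μ
  have hπs : Surjective π.left := ha₀'.property _ _ _ (ha₀.rep.isPullback μ)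
  have hσ : (yon S).map σ ≫ a₀ = (yon S).map π ≫ μ := (ha₀.rep.isPullback' μ).w
  have hσh : σ ≫ k = π ≫ h := (yon S).map_injective (by
    rw [Functor.map_comp, ← hk, ← Category.assoc, hσ, Category.assoc, pullback.lift_snd, ← Functor.map_comp])
  have hσK : ∀ z, Synt.IsKoszulAt σ.left z := hf ((yon S).map π ≫ a) b σ
    (repWith_comp ((repWith_yon_map_iff _ π).2 hπ) ha) hb
    (by rw [Category.assoc, ← Category.assoc ((yon S).map σ), hσ, Category.assoc, pullback.lift_fst])
  have hsm : Smooth k.left := hg b c k hb hc wY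
  intro u
  obtain ⟨z, rfl⟩ := hπs.surj u
  haveI := hπ
  rw [← isKoszulAt_comp_left_iff π.left h.left z, ← Over.comp_left, ← hσh, Over.comp_left]
  exact forall_isKoszulAt_comp hσK (fun y => CurvLocusLib.isKoszulAt_of_smooth k.left y) z

theorem isSmoothLocalST_lci : IsSmoothLocalST (IsLCIMor (S := S)) :=
  isSmoothLocalST_of_local isLocalOnSource_lci
    (isLocalOnBase_smCover_of_fppf (isLocalOnBase_fppfCover_of_fpqc Groth.Agent.S10667.result)) lci_comp_smooth

end Groth.Agent.LciSmooth
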